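import Cfsg.Agent.Lib.PGroups.Polynomial
import Cfsg.Agent.Lib.PGroups.MaxClassGen
import Cfsg.Agent.Lib.RankTwo.TwoMaxClass
import Cfsg.Agent.Lib.Cores.AssocLieRing
import Cfsg.Prelude.Def_CaseTheorems

/-!
`p`-th powers in `p`-groups of maximal class of small order.
-/

set_option autoImplicit false
set_option linter.unusedSectionVars false

namespace Cfsg.Agent.Lib.MaxClassPower

open scoped commutatorElement
open Subgroup

universe u

variable {G : Type u} [Group G] [Finite G] {p : ℕ} [hp : Fact p.Prime]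

/-- The congruence `(a b) ^ p ≡ a ^ p b ^ p`. -/
theorem hall_congr {F : ℕ → Subgroup G} {N : ℕ} (hF : PGroups.IsFiltration F N) {a b : G}
    (ha : a ∈ F 1) (hb : b ∈ F 1) (T : Subgroup G)
    (hlow : ∀ j, 2 ≤ j → j < p → ∀ x ∈ F j, x ^ p ∈ T) (hhigh : ∀ j, p ≤ j → F j ≤ T) :
    (b ^ p)⁻¹ * (a ^ p)⁻¹ * (a * b) ^ p ∈ T := by
  have poly : ∀ {x : G}, x ∈ F 1 → PGroups.IsPolySeq F 0 (fun n => x ^ n) := by
    intro x hx
    have := PGroups.isPolySeq_choose hF hx 1 le_rfl
    simpa using this
  have hg := ((poly (inv_mem hb)).mul hF (poly (inv_mem ha))).mul hF (poly (mul_mem ha hb))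
  have h := hg.apply_mem hF (k := 2) (fun j hj => ?_) p T (fun j hj hjN x hx => ?_)
  · simpa [inv_pow] using h
  · interval_cases j
    · simp
    · show b⁻¹ ^ 1 * a⁻¹ ^ 1 * (a * b) ^ 1 = 1
      group
  · rcases Nat.lt_or_ge j p with hjp | hjp
    · obtain ⟨c, hc⟩ := hp.out.dvd_choose_self (by omega) hjp
      rw [hc, pow_mul]
      exact pow_mem (hlow j hj hjp x hx) c
    · exact pow_mem (hhigh j hjp hx) _

/-- `L i` is the `(i + 1)`-st term of the lower central series. -/
abbrev L (G : Type u) [Group G] (i : ℕ) : Subgroup G := (⊤ : Subgroup G).lowerCentralSeries i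

theorem L_mono {i j : ℕ} (h : i ≤ j) : L G j ≤ L G i :=
  Subgroup.lowerCentralSeries_antitone _ h

theorem L_comm {i j : ℕ} {a b : G} (ha : a ∈ L G i) (hb : b ∈ L G j) : ⁅a, b⁆ ∈ L G (i + j + 1) :=
  Cores.AssocLie.mem_comm ha hb

/-- The lower central series as a filtration. -/
theorem filtration_L {c : ℕ} (hc : L G c = ⊥) :
    PGroups.IsFiltration (fun j => L G (j - 1)) (c + 1) where
  anti i := L_mono (by omega)
  comm i j := by
    rw [Subgroup.commutator_le]
    intro a ha b hb
    exact L_mono (by omega) (L_comm ha hb)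
  bot i hi := le_bot_iff.mp (hc ▸ L_mono (by omega))

/-- The filtration of `⟨s⟩ L i`. -/
theorem filtration_sup {c : ℕ} (hc : L G c = ⊥) (s : G) (i : ℕ) :
    PGroups.IsFiltration (fun j => if j ≤ 1 then Subgroup.zpowers s ⊔ L G i else L G (i + j - 1))
      (c + 2) where
  anti j := by
    show (if j + 1 ≤ 1 then Subgroup.zpowers s ⊔ L G i else L G (i + (j + 1) - 1)) ≤
      if j ≤ 1 then Subgroup.zpowers s ⊔ L G i else L G (i + j - 1)
    split_ifs
    · exact le_rfl
    · omega
    · exact le_sup_of_le_right (L_mono (by omega))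
    · exact L_mono (by omega)
  comm a b := by
    show ⁅(if a ≤ 1 then Subgroup.zpowers s ⊔ L G i else L G (i + a - 1)),
      (if b ≤ 1 then Subgroup.zpowers s ⊔ L G i else L G (i + b - 1))⁆ ≤
      if a + b ≤ 1 then Subgroup.zpowers s ⊔ L G i else L G (i + (a + b) - 1)
    rw [Subgroup.commutator_le]
    intro x hx y hy
    have h1 : ∀ {u : G}, u ∈ L G 0 := fun {u} => Subgroup.mem_top u
    by_cases hab : a + b ≤ 1
    · rw [if_pos hab]
      rw [if_pos (show a ≤ 1 by omega)] at hx
      rw [if_pos (show b ≤ 1 by omega)] at hy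
      exact mul_mem (mul_mem (mul_mem hx hy) (inv_mem hx)) (inv_mem hy)
    rw [if_neg hab]
    by_cases ha : a ≤ 1 <;> by_cases hb : b ≤ 1
    · rw [if_pos ha] at hx
      rw [if_pos hb] at hy
      refine L_mono (show i + (a + b) - 1 ≤ i + 1 by omega) ?_
      rw [← QuotientGroup.eq_one_iff]
      show QuotientGroup.mk' (L G (i + 1)) ⁅x, y⁆ = 1
      rw [map_commutatorElement, commutatorElement_eq_one_iff_mul_comm]
      have key : ∀ l ∈ L G i, ∀ u : G, Commute (QuotientGroup.mk' (L G (i + 1)) l)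
          (QuotientGroup.mk' (L G (i + 1)) u) := fun l hl u => by
        show _ * _ = _ * _
        rw [← commutatorElement_eq_one_iff_mul_comm, ← map_commutatorElement]
        exact (QuotientGroup.eq_one_iff _).mpr (L_mono (by omega) (L_comm hl (h1 (u := u))))
      obtain ⟨x1, hx1, x2, hx2, rfl⟩ := Subgroup.mem_sup_of_normal_right.mp hx
      obtain ⟨y1, hy1, y2, hy2, rfl⟩ := Subgroup.mem_sup_of_normal_right.mp hy
      obtain ⟨z1, rfl⟩ := Subgroup.mem_zpowers_iff.mp hx1
      obtain ⟨z2, rfl⟩ := Subgroup.mem_zpowers_iff.mp hy1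
      rw [map_mul, map_mul, map_zpow, map_zpow]
      refine Commute.eq (Commute.mul_left ?_ (Commute.mul_right ?_ ?_))
      · refine Commute.mul_right ((Commute.refl _).zpow_zpow _ _) ?_
        rw [← map_zpow]; exact (key _ hy2 _).symm
      · rw [← map_zpow]; exact key _ hx2 _
      · exact key _ hx2 _
    · rw [if_neg hb] at hy
      exact L_mono (by omega) (L_comm (h1 (u := x)) hy)
    · rw [if_neg ha] at hx
      exact L_mono (by omega) (L_comm hx (h1 (u := y)))
    · rw [if_neg ha] at hx
      rw [if_neg hb] at hy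
      exact L_mono (by omega) (L_comm hx hy)
  bot j hj := by
    show (if j ≤ 1 then Subgroup.zpowers s ⊔ L G i else L G (i + j - 1)) = ⊥
    rw [if_neg (by omega)]
    exact le_bot_iff.mp (hc ▸ L_mono (by omega))

/-- If all `p`-th powers lie in `L M` then `(L i) ^ p ≤ L (i + M)`. -/
theorem pow_mem_shift {c : ℕ} (hc : L G c = ⊥) {M : ℕ} (hM : M + 1 ≤ p)
    (hpow : ∀ x : G, x ^ p ∈ L G M) : ∀ i, ∀ x ∈ L G i, x ^ p ∈ L G (i + M) := by
  suffices h : ∀ d i, c ≤ i + d → ∀ x ∈ L G i, x ^ p ∈ L G (i + M) from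
    fun i => h c i (by omega)
  intro d
  induction d with
  | zero =>
    intro i hi x hx
    have : x = 1 := Subgroup.mem_bot.mp (hc ▸ L_mono (show c ≤ i by omega) hx)
    rw [this, one_pow]; exact one_mem _
  | succ d ih =>
    intro i hi x hx
    rcases i with _ | i
    · rw [zero_add]; exact hpow x
    set T := L G (i + 1 + M) with hT
    have congr_mod : ∀ s a b : G, a ∈ Subgroup.zpowers s ⊔ L G (i + 1) →
        b ∈ Subgroup.zpowers s ⊔ L G (i + 1) → (b ^ p)⁻¹ * (a ^ p)⁻¹ * (a * b) ^ p ∈ T := by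
      intro s a b ha hb
      refine hall_congr (filtration_sup hc s (i + 1)) (by simpa using ha) (by simpa using hb) T
        (fun j hj hjp y hy => ?_) (fun j hj y hy => ?_)
      · simp only [if_neg (show ¬ j ≤ 1 by omega)] at hy
        exact L_mono (by omega) (ih (i + 1 + j - 1) (by omega) y hy)
      · have := hp.out.two_le
        simp only [if_neg (show ¬ j ≤ 1 by omega)] at hy
        exact L_mono (by omega) hy
    let X : Subgroup G :=
      { carrier := {y | y ∈ L G (i + 1) ∧ y ^ p ∈ T}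
        one_mem' := ⟨one_mem _, by rw [one_pow]; exact one_mem _⟩
        inv_mem' := fun {y} hy => ⟨inv_mem hy.1, by rw [inv_pow]; exact inv_mem hy.2⟩
        mul_mem' := fun {a b} ha hb => ⟨mul_mem ha.1 hb.1, by
          have h := congr_mod 1 a b (Subgroup.mem_sup_right ha.1) (Subgroup.mem_sup_right hb.1)
          have e : (a * b) ^ p = a ^ p * b ^ p * ((b ^ p)⁻¹ * (a ^ p)⁻¹ * (a * b) ^ p) := by group
          rw [e]
          exact mul_mem (mul_mem ha.2 hb.2) h⟩ }
    have hle : L G (i + 1) ≤ X := by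
      show ⁅L G i, (⊤ : Subgroup G)⁆ ≤ X
      rw [Subgroup.commutator_le]
      intro y hy s _
      have hcy : ⁅y, s⁆ ∈ L G (i + 1) := L_comm (j := 0) hy (Subgroup.mem_top s)
      refine ⟨hcy, ?_⟩
      have h := congr_mod s ⁅y, s⁆ s (Subgroup.mem_sup_right hcy)
        (Subgroup.mem_sup_left (Subgroup.mem_zpowers s))
      have e1 : (⁅y, s⁆ * s) ^ p = ⁅y, s ^ p⁆ * s ^ p := by
        rw [show ⁅y, s⁆ * s = y * s * y⁻¹ by rw [commutatorElement_def]; group, conj_pow,
          commutatorElement_def]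
        group
      rw [e1] at h
      have h2 : ⁅y, s ^ p⁆ ∈ T := L_mono (by omega) (L_comm hy (hpow s))
      have hn : T.Normal := inferInstance
      have h3 := hn.conj_mem _ h (s ^ p)
      rw [show s ^ p * ((s ^ p)⁻¹ * (⁅y, s⁆ ^ p)⁻¹ * (⁅y, s ^ p⁆ * s ^ p)) * (s ^ p)⁻¹ =
        (⁅y, s⁆ ^ p)⁻¹ * ⁅y, s ^ p⁆ by group] at h3
      have := mul_mem h2 (inv_mem h3)
      rwa [mul_inv_rev, inv_inv, mul_inv_cancel_left] at this
    exact (hle hx).2

/-- The orders of the terms of the series in a group of maximal class. -/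
theorem card_L {n : ℕ} (hn : 2 ≤ n) (hG : Nat.card G = p ^ n)
    (hmax : ∀ j, j < n - 1 → L G j ≠ ⊥) {j : ℕ} (h1 : 1 ≤ j) (h2 : j ≤ n - 1) :
    Nat.card (L G j) = p ^ (n - 1 - j) := by
  have hpG : IsPGroup p G := IsPGroup.of_card hG
  haveI := hpG.isNilpotent
  refine le_antisymm ?_ ?_
  · obtain ⟨m, rfl⟩ := Nat.exists_eq_add_of_le' hn
    obtain ⟨j, rfl⟩ := Nat.exists_eq_add_of_le' h1
    refine (RankTwo.card_lowerCentralSeries_le hG j).trans ?_
    rw [show m + 2 - 1 - (j + 1) = m - j by omega]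
  · have key : ∀ d i, 1 ≤ i → i + d = n - 1 → p ^ d ≤ Nat.card (L G i) := by
      intro d
      induction d with
      | zero => intro i _ _; rw [pow_zero]; exact Nat.card_pos
      | succ d ih =>
        intro i hi hid
        have hlt : L G (i + 1) < L G i := by
          show ⁅L G i, (⊤ : Subgroup G)⁆ < L G i
          exact Coprime.commutator_lt_of_isPGroup (hpG.to_subgroup _) (hpG.to_subgroup ⊤)
            (fun g _ => by rw [Subgroup.normalizer_eq_top]; trivial) (hmax i (by omega))
        refine le_trans ?_ (PGroups.card_mul_le_of_lt (hpG.to_subgroup _) hlt)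
        rw [pow_succ]
        exact Nat.mul_le_mul_right p (ih (i + 1) (by omega) (by omega))
    exact key (n - 1 - j) j h1 (by omega)

/-- All `p`-th powers lie deep in the series. -/
theorem pow_mem_L {n : ℕ} (hn : 3 ≤ n) (hG : Nat.card G = p ^ n)
    (hmax : ∀ j, j < n - 1 → L G j ≠ ⊥) : ∀ M, 1 ≤ M → M + 1 ≤ p → M + 2 ≤ n →
      ∀ x : G, x ^ p ∈ L G M := by
  have hpG : IsPGroup p G := IsPGroup.of_card hG
  haveI := hpG.isNilpotent
  have hc : L G (n - 1) = ⊥ := RankTwo.lowerCentralSeries_eq_bot (by omega) hG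
  have hidx1 : (L G 1).index = p ^ 2 := by
    have h := (L G 1).card_mul_index
    rw [card_L (by omega) hG hmax le_rfl (by omega), hG,
      show p ^ n = p ^ (n - 1 - 1) * p ^ 2 by rw [← pow_add, show n - 1 - 1 + 2 = n by omega]] at h
    exact Nat.eq_of_mul_eq_mul_left (pow_pos hp.out.pos _) h
  intro M hM
  induction M, hM using Nat.le_induction with
  | base =>
    intro _ _ x
    by_contra hx
    have hord : orderOf (QuotientGroup.mk x : G ⧸ L G 1) = p ^ 2 := by
      have hd : orderOf (QuotientGroup.mk x : G ⧸ L G 1) ∣ p ^ 2 := by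
        rw [← hidx1, Subgroup.index_eq_card]; exact _root_.orderOf_dvd_natCard _
      obtain ⟨t, ht, hto⟩ := (Nat.dvd_prime_pow hp.out).mp hd
      rcases (show t ≤ 1 ∨ t = 2 by omega) with ht' | rfl
      · refine absurd ?_ hx
        rw [← QuotientGroup.eq_one_iff, QuotientGroup.mk_pow, ← orderOf_dvd_iff_pow_eq_one, hto]
        exact (pow_dvd_pow p ht').trans (dvd_of_eq (pow_one p))
      · exact hto
    have hcyc : IsCyclic (G ⧸ L G 1) :=
      isCyclic_of_orderOf_eq_card _ (by rw [hord, ← hidx1, Subgroup.index_eq_card])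
    have hcom : L G 1 = commutator G := Subgroup.top_lowerCentralSeries_one
    haveI : IsCyclic (G ⧸ commutator G) :=
      isCyclic_of_surjective (QuotientGroup.quotientMulEquivOfEq hcom).toMonoidHom
        (QuotientGroup.quotientMulEquivOfEq hcom).surjective
    exact hmax 1 (by omega) (hcom.trans (PGroups.commutator_eq_bot_of_isCyclic hpG))
  | succ M hM ih =>
    intro hMp hMn
    have hpow := ih (by omega) (by omega)
    have hsh := pow_mem_shift hc (M := M) (by omega) hpow
    let K : Subgroup G :=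
      { carrier := {x | x ^ p ∈ L G (M + 1)}
        one_mem' := by simp [one_mem]
        inv_mem' := fun {x} hx => by
          show x⁻¹ ^ p ∈ L G (M + 1)
          rw [inv_pow]; exact inv_mem hx
        mul_mem' := fun {a b} ha hb => by
          have h := hall_congr (filtration_L hc) (a := a) (b := b) (Subgroup.mem_top a)
            (Subgroup.mem_top b) (L G (M + 1)) (fun j hj _ y hy => L_mono (by omega) (hsh (j - 1) y hy))
            (fun j hj => L_mono (by omega))
          show (a * b) ^ p ∈ L G (M + 1)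
          rw [show (a * b) ^ p = a ^ p * b ^ p * ((b ^ p)⁻¹ * (a ^ p)⁻¹ * (a * b) ^ p) by group]
          exact mul_mem (mul_mem ha hb) h }
    let C : Subgroup G := (Subgroup.centralizer
      (((L G M).map (QuotientGroup.mk' (L G (M + 1 + 1))) : Subgroup _) : Set _)).comap
        (QuotientGroup.mk' (L G (M + 1 + 1)))
    have memC : ∀ x, x ∈ C ↔ ∀ g ∈ L G M, ⁅g, x⁆ ∈ L G (M + 1 + 1) := by
      intro x
      rw [Subgroup.mem_comap, Subgroup.mem_centralizer_iff]
      refine ⟨fun h g hg => ?_, fun h y hy => ?_⟩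
      · rw [← QuotientGroup.eq_one_iff]
        show QuotientGroup.mk' _ ⁅g, x⁆ = 1
        rw [map_commutatorElement, commutatorElement_eq_one_iff_mul_comm]
        exact h _ (Subgroup.mem_map_of_mem _ hg)
      · obtain ⟨g, hg, rfl⟩ := hy
        rw [← commutatorElement_eq_one_iff_mul_comm, ← map_commutatorElement]
        exact (QuotientGroup.eq_one_iff _).mpr (h g hg)
    have hCtop : C ≠ ⊤ := by
      intro hC
      have hle : L G (M + 1) ≤ L G (M + 1 + 1) := by
        show ⁅L G M, (⊤ : Subgroup G)⁆ ≤ L G (M + 1 + 1)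
        rw [Subgroup.commutator_le]
        exact fun g hg x _ => (memC x).mp (hC ▸ Subgroup.mem_top x) g hg
      have := Subgroup.card_le_of_le hle
      rw [card_L (by omega) hG hmax (by omega) (by omega),
        card_L (by omega) hG hmax (by omega) (by omega), Nat.pow_le_pow_iff_right hp.out.one_lt] at this
      omega
    have hout : ∀ x, x ∉ C → x ∈ K := by
      intro x hx
      by_contra hxK
      refine hx ((memC x).mpr fun g hg => ?_)
      have hgen : Subgroup.zpowers (x ^ p) ⊔ L G (M + 1) = L G M := by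
        have hle : Subgroup.zpowers (x ^ p) ⊔ L G (M + 1) ≤ L G M :=
          sup_le (Subgroup.zpowers_le.mpr (hpow x)) (L_mono (by omega))
        have hlt : L G (M + 1) < Subgroup.zpowers (x ^ p) ⊔ L G (M + 1) :=
          lt_of_le_of_ne le_sup_right fun h => hxK (by
            show x ^ p ∈ L G (M + 1)
            rw [h]; exact Subgroup.mem_sup_left (Subgroup.mem_zpowers _))
        refine Subgroup.eq_of_le_of_card_ge hle ?_
        have := PGroups.card_mul_le_of_lt (hpG.to_subgroup _) hlt
        rw [card_L (by omega) hG hmax (by omega) (by omega), ← pow_succ] at this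
        rw [card_L (by omega) hG hmax (by omega) (by omega)]
        exact le_trans (Nat.pow_le_pow_right hp.out.pos (by omega)) this
      rw [← hgen] at hg
      obtain ⟨a, ha, l, hl, rfl⟩ := Subgroup.mem_sup_of_normal_right.mp hg
      obtain ⟨z, rfl⟩ := Subgroup.mem_zpowers_iff.mp ha
      have hl1 : ⁅l, x⁆ ∈ L G (M + 1 + 1) := L_comm (j := 0) hl (Subgroup.mem_top x)
      have hn : (L G (M + 1 + 1)).Normal := inferInstance
      have := hn.conj_mem _ hl1 ((x ^ p) ^ z)
      have hcom : Commute ((x ^ p) ^ z) x := ((Commute.refl x).pow_left p).zpow_left z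
      rw [show ⁅(x ^ p) ^ z * l, x⁆ = (x ^ p) ^ z * ⁅l, x⁆ * ((x ^ p) ^ z)⁻¹ from ?_]
      · exact this
      · have hcom' : Commute x ((x ^ p) ^ z)⁻¹ := hcom.symm.inv_right
        simp only [commutatorElement_def, mul_inv_rev]
        calc (x ^ p) ^ z * l * x * (l⁻¹ * ((x ^ p) ^ z)⁻¹) * x⁻¹
            = (x ^ p) ^ z * (l * x * l⁻¹) * (((x ^ p) ^ z)⁻¹ * x⁻¹) := by group
          _ = (x ^ p) ^ z * (l * x * l⁻¹) * (x⁻¹ * ((x ^ p) ^ z)⁻¹) := by
            rw [(hcom.inv_inv).eq]
          _ = _ := by group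
    intro x
    show x ∈ K
    by_cases hx : x ∈ C
    · obtain ⟨y, hy⟩ : ∃ y, y ∉ C := by
        by_contra! h; exact hCtop (eq_top_iff.mpr fun y _ => h y)
      have hxy : x * y ∉ C := fun h => hy (by
        have := C.mul_mem (C.inv_mem hx) h; rwa [inv_mul_cancel_left] at this)
      have := K.mul_mem (hout _ hxy) (K.inv_mem (hout _ hy))
      rwa [mul_inv_cancel_right] at this
    · exact hout x hx

/-- An elementary abelian section. -/
theorem rank_of_section {H N : Subgroup G} [N.Normal] (hNH : N ≤ H)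
    (hcomm : ∀ a ∈ H, ∀ b ∈ H, ⁅a, b⁆ ∈ N) (hpow : ∀ a ∈ H, a ^ p ∈ N) {k : ℕ}
    (h : Cfsg.SectionalPRankLE p k G) : Nat.card H ≤ p ^ k * Nat.card N := by
  have h1 := h H (N.subgroupOf H) ⊤ ⟨⟨?_⟩⟩ ?_
  · rw [Subgroup.card_top, ← Subgroup.index_eq_card] at h1
    rw [← (N.subgroupOf H).index_mul_card, Nat.card_congr (Subgroup.subgroupOfEquivOfLe hNH).toEquiv]
    exact Nat.mul_le_mul_right _ h1
  · rintro ⟨a, -⟩ ⟨b, -⟩
    obtain ⟨a, rfl⟩ := QuotientGroup.mk'_surjective _ a
    obtain ⟨b, rfl⟩ := QuotientGroup.mk'_surjective _ b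
    refine Subtype.ext ?_
    show QuotientGroup.mk' _ a * QuotientGroup.mk' _ b = QuotientGroup.mk' _ b * QuotientGroup.mk' _ a
    rw [← commutatorElement_eq_one_iff_mul_comm, ← map_commutatorElement]
    exact (QuotientGroup.eq_one_iff _).mpr (Subgroup.mem_subgroupOf.mpr (hcomm _ a.2 _ b.2))
  · intro a _
    obtain ⟨a, rfl⟩ := QuotientGroup.mk'_surjective _ a
    rw [← map_pow]
    exact (QuotientGroup.eq_one_iff _).mpr (Subgroup.mem_subgroupOf.mpr (hpow _ a.2))

/-- The bound on the order by the sectional rank. -/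
theorem order_le {n : ℕ} (hn : 2 ≤ n) (hG : Nat.card G = p ^ n)
    (hmax : ∀ j, j < n - 1 → L G j ≠ ⊥) {k : ℕ} (hk : 1 ≤ k) (hsr : Cfsg.SectionalPRankLE p k G)
    (hpk : k + 2 ≤ p) : n ≤ 2 * k := by
  by_contra hlt
  have hpG : IsPGroup p G := IsPGroup.of_card hG
  haveI := hpG.isNilpotent
  have hc : L G (n - 1) = ⊥ := RankTwo.lowerCentralSeries_eq_bot (by omega) hG
  have hn3 : 3 ≤ n := by omega
  rcases (show k = 1 ∨ 2 ≤ k by omega) with rfl | hk2
  · have := rank_of_section (H := ⊤) (N := L G 1) le_top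
      (fun a _ b _ => L_comm (i := 0) (j := 0) (Subgroup.mem_top a) (Subgroup.mem_top b))
      (fun a _ => pow_mem_L hn3 hG hmax 1 le_rfl (by omega) (by omega) a) hsr
    rw [Subgroup.card_top, hG, card_L hn hG hmax le_rfl (by omega), ← pow_add,
      Nat.pow_le_pow_iff_right hp.out.one_lt] at this
    omega
  have hpow := pow_mem_L hn3 hG hmax (k + 1) (by omega) (by omega) (by omega)
  have hsh := pow_mem_shift hc (M := k + 1) (by omega) hpow (k - 1)
  have := rank_of_section (H := L G (k - 1)) (N := L G (2 * k)) (L_mono (by omega)) ?_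
    (fun a ha => L_mono (by omega) (hsh a ha)) hsr
  · rw [card_L hn hG hmax (by omega) (by omega), card_L hn hG hmax (by omega) (by omega),
      ← pow_add, Nat.pow_le_pow_iff_right hp.out.one_lt] at this
    omega
  · -- the section is generated by one element modulo a part commuting with it
    obtain ⟨g, hg, hgk⟩ := SetLike.exists_of_lt (show L G k < L G (k - 1) from
      lt_of_le_of_ne (L_mono (by omega)) fun h => by
        have := congrArg (fun K : Subgroup G => Nat.card K) h
        rw [card_L hn hG hmax (by omega) (by omega), card_L hn hG hmax (by omega) (by omega)] at this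
        have := Nat.pow_right_injective hp.out.two_le this
        omega)
    have hgen : Subgroup.zpowers g ⊔ L G k = L G (k - 1) := by
      have hle : Subgroup.zpowers g ⊔ L G k ≤ L G (k - 1) :=
        sup_le (Subgroup.zpowers_le.mpr hg) (L_mono (by omega))
      have hlt' : L G k < Subgroup.zpowers g ⊔ L G k := lt_of_le_of_ne le_sup_right fun h => hgk (by
        rw [h]; exact Subgroup.mem_sup_left (Subgroup.mem_zpowers g))
      refine Subgroup.eq_of_le_of_card_ge hle ?_
      have := PGroups.card_mul_le_of_lt (hpG.to_subgroup _) hlt'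
      rw [card_L hn hG hmax (by omega) (by omega), ← pow_succ] at this
      rw [card_L hn hG hmax (by omega) (by omega)]
      exact le_trans (Nat.pow_le_pow_right hp.out.pos (by omega)) this
    intro a ha b hb
    rw [← QuotientGroup.eq_one_iff]
    show QuotientGroup.mk' (L G (2 * k)) ⁅a, b⁆ = 1
    rw [map_commutatorElement, commutatorElement_eq_one_iff_mul_comm]
    have key : ∀ l ∈ L G k, ∀ u ∈ L G (k - 1), Commute (QuotientGroup.mk' (L G (2 * k)) l)
        (QuotientGroup.mk' (L G (2 * k)) u) := fun l hl u hu => by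
      show _ * _ = _ * _
      rw [← commutatorElement_eq_one_iff_mul_comm, ← map_commutatorElement]
      exact (QuotientGroup.eq_one_iff _).mpr (L_mono (by omega) (L_comm hl hu))
    rw [← hgen] at ha hb
    obtain ⟨a1, ha1, a2, ha2, rfl⟩ := Subgroup.mem_sup_of_normal_right.mp ha
    obtain ⟨b1, hb1, b2, hb2, rfl⟩ := Subgroup.mem_sup_of_normal_right.mp hb
    have hmem : ∀ {u : G}, u ∈ Subgroup.zpowers g → u ∈ L G (k - 1) := fun hu =>
      (Subgroup.zpowers_le.mpr hg) hu
    rw [map_mul, map_mul]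
    refine Commute.eq (Commute.mul_left (Commute.mul_right ?_ (key _ hb2 _ (hmem ha1)).symm)
      (Commute.mul_right (key _ ha2 _ (hmem hb1)) (key _ ha2 _ (L_mono (by omega) hb2))))
    obtain ⟨z1, rfl⟩ := Subgroup.mem_zpowers_iff.mp ha1
    obtain ⟨z2, rfl⟩ := Subgroup.mem_zpowers_iff.mp hb1
    rw [map_zpow, map_zpow]
    exact (Commute.refl _).zpow_zpow _ _

end Cfsg.Agent.Lib.MaxClassPower
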