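import Cfsg.Agent.Lib.MaxClassPower.Basic
import Mathlib.GroupTheory.RegularWreathProduct
import Mathlib.FieldTheory.Finite.Basic

/-!
The Engel identity in groups of exponent `p` and class at most `p`, by comparison with the wreath
product of two groups of order `p`.
-/

set_option autoImplicit false
set_option linter.unusedSectionVars false
set_option linter.style.haveILetI false

namespace Cfsg.Agent.Lib.MaxClassPower

open scoped commutatorElement
open Subgroup

universe u u'

section Brackets

variable {G : Type u} [Group G] [Finite G]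

/-- The canonical map modulo a term of the series. -/
abbrev qm (G : Type u) [Group G] (j : ℕ) : G →* G ⧸ L G j := QuotientGroup.mk' (L G j)

theorem qm_eq_one {j : ℕ} {x : G} : qm G j x = 1 ↔ x ∈ L G j := QuotientGroup.eq_one_iff x

theorem qm_comm {j : ℕ} {a : G} (ha : a ∈ L G j) (g : G) :
    Commute (qm G (j + 1) g) (qm G (j + 1) a) := by
  show _ * _ = _ * _
  rw [← commutatorElement_eq_one_iff_mul_comm, ← map_commutatorElement, qm_eq_one]
  exact L_mono (by omega) (L_comm (i := 0) (Subgroup.mem_top g) ha)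

/-- `a ↦ ⁅a, y⁆` on a term of the series. -/
def bk (j : ℕ) (y : G) : ↥(L G j) →* G ⧸ L G (j + 2) :=
  MonoidHom.mk' (fun a => qm G (j + 2) ⁅(a : G), y⁆) fun a b => by
    have h : Commute (qm G (j + 2) (a : G)) (qm G (j + 2) ⁅(b : G), y⁆) :=
      qm_comm (j := j + 1) (L_comm (j := 0) b.2 (Subgroup.mem_top y)) _
    have h' : Commute (qm G (j + 2) ⁅(a : G), y⁆) (qm G (j + 2) ⁅(b : G), y⁆) :=
      qm_comm (j := j + 1) (L_comm (j := 0) b.2 (Subgroup.mem_top y)) _
    have e : ⁅(a : G) * b, y⁆ = (a : G) * ⁅(b : G), y⁆ * (a : G)⁻¹ * ⁅(a : G), y⁆ := by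
      simp only [commutatorElement_def]; group
    show qm G (j + 2) ⁅(a : G) * b, y⁆ = _
    rw [e, map_mul, map_mul, map_mul, h.eq, mul_assoc (qm G (j + 2) ⁅(b : G), y⁆),
      ← map_mul, mul_inv_cancel, map_one, mul_one, h'.eq]

/-- `y ↦ ⁅a, y⁆` for `a` in a term of the series. -/
def bk2 (j : ℕ) (a : ↥(L G j)) : G →* G ⧸ L G (j + 2) :=
  MonoidHom.mk' (fun y => qm G (j + 2) ⁅(a : G), y⁆) fun y z => by
    have h : Commute (qm G (j + 2) y) (qm G (j + 2) ⁅(a : G), z⁆) :=
      qm_comm (j := j + 1) (L_comm (j := 0) a.2 (Subgroup.mem_top z)) _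
    have e : ⁅(a : G), y * z⁆ = ⁅(a : G), y⁆ * (y * ⁅(a : G), z⁆ * y⁻¹) := by
      simp only [commutatorElement_def]; group
    show qm G (j + 2) ⁅(a : G), y * z⁆ = _
    rw [e, map_mul, map_mul, map_mul, h.eq, mul_assoc (qm G (j + 2) ⁅(a : G), z⁆),
      ← map_mul, mul_inv_cancel, map_one, mul_one]

theorem comm_congr_zpow {j : ℕ} {a c : G} (hc : c ∈ L G j) {n : ℤ}
    (h : qm G (j + 1) a = qm G (j + 1) c ^ n) (y : G) :
    qm G (j + 2) ⁅a, y⁆ = qm G (j + 2) ⁅c, y⁆ ^ n := by
  rw [← map_zpow] at h
  have hd : (c ^ n)⁻¹ * a ∈ L G (j + 1) := by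
    rw [← qm_eq_one, map_mul, map_inv, h, inv_mul_cancel]
  set l := (c ^ n)⁻¹ * a with hl
  have ha : a = c ^ n * l := by rw [hl, mul_inv_cancel_left]
  have e : bk j y ⟨c ^ n * l, mul_mem (zpow_mem hc n) (L_mono (by omega) hd)⟩ =
      bk j y (⟨c, hc⟩ ^ n) * bk j y ⟨l, L_mono (by omega) hd⟩ := by
    rw [← map_mul]; rfl
  have e2 : bk j y ⟨l, L_mono (by omega) hd⟩ = 1 :=
    qm_eq_one.mpr (L_mono (by omega) (L_comm (j := 0) hd (Subgroup.mem_top y)))
  rw [e2, mul_one, map_zpow] at e
  rw [ha]
  exact e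

theorem comm_congr_pow {j : ℕ} {a c : G} (hc : c ∈ L G j) {n : ℕ}
    (h : qm G (j + 1) a = qm G (j + 1) c ^ n) (y : G) :
    qm G (j + 2) ⁅a, y⁆ = qm G (j + 2) ⁅c, y⁆ ^ n := by
  rw [← zpow_natCast] at h ⊢
  exact comm_congr_zpow hc h y

theorem comm_pow_right {j : ℕ} {c : G} (hc : c ∈ L G j) (y : G) (n : ℕ) :
    qm G (j + 2) ⁅c, y ^ n⁆ = qm G (j + 2) ⁅c, y⁆ ^ n :=
  map_pow (bk2 j ⟨c, hc⟩) y n

/-- The series is generated modulo the next term by brackets in the generators. -/
def brk (S X : G) : ℕ → Set G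
  | 0 => {S, X}
  | j + 1 => {z | ∃ g ∈ brk S X j, ∃ y ∈ ({S, X} : Set G), z = ⁅g, y⁆}

theorem brk_subset (S X : G) : ∀ j, brk S X j ⊆ (L G j : Set G)
  | 0 => fun x _ => Subgroup.mem_top x
  | j + 1 => by
    rintro _ ⟨g, hg, y, -, rfl⟩
    exact L_comm (j := 0) (brk_subset S X j hg) (Subgroup.mem_top y)

theorem L_le_brk (S X : G) (hgen : Subgroup.closure ({S, X} : Set G) = ⊤) :
    ∀ j, L G j ≤ Subgroup.closure (brk S X j) ⊔ L G (j + 1) := by
  intro j
  induction j with
  | zero => exact le_sup_of_le_left (hgen ▸ le_refl (⊤ : Subgroup G) : _ ≤ Subgroup.closure (brk S X 0))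
  | succ j ih =>
    set K := Subgroup.closure (brk S X (j + 1)) ⊔ L G (j + 1 + 1) with hK
    have hKle : K ≤ L G (j + 1) :=
      sup_le ((Subgroup.closure_le _).mpr (brk_subset S X (j + 1))) (L_mono (by omega))
    have hn : ∀ k ∈ K, ∀ g : G, g * k * g⁻¹ ∈ K := by
      intro k hk g
      have h : ⁅g, k⁆ ∈ K := Subgroup.mem_sup_right
        (L_mono (by omega) (L_comm (i := 0) (Subgroup.mem_top g) (hKle hk)))
      have := K.mul_mem h hk
      rwa [show ⁅g, k⁆ * k = g * k * g⁻¹ by rw [commutatorElement_def]; group] at this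
    let B : G → Subgroup G := fun y =>
      { carrier := {a | ⁅a, y⁆ ∈ K}
        one_mem' := by simp [one_mem]
        mul_mem' := fun {a b} ha hb => by
          show ⁅a * b, y⁆ ∈ K
          rw [show ⁅a * b, y⁆ = a * ⁅b, y⁆ * a⁻¹ * ⁅a, y⁆ by
            simp only [commutatorElement_def]; group]
          exact K.mul_mem (hn _ hb a) ha
        inv_mem' := fun {a} ha => by
          show ⁅a⁻¹, y⁆ ∈ K
          rw [show ⁅a⁻¹, y⁆ = a⁻¹ * ⁅a, y⁆⁻¹ * a⁻¹⁻¹ by simp only [commutatorElement_def]; group]
          exact hn _ (K.inv_mem ha) _ }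
    show ⁅L G j, (⊤ : Subgroup G)⁆ ≤ K
    rw [Subgroup.commutator_le]
    intro a ha g _
    let A : Subgroup G :=
      { carrier := {g | ⁅a, g⁆ ∈ K}
        one_mem' := by simp [one_mem]
        mul_mem' := fun {g h} hg hh => by
          show ⁅a, g * h⁆ ∈ K
          rw [show ⁅a, g * h⁆ = ⁅a, g⁆ * (g * ⁅a, h⁆ * g⁻¹) by
            simp only [commutatorElement_def]; group]
          exact K.mul_mem hg (hn _ hh g)
        inv_mem' := fun {g} hg => by
          show ⁅a, g⁻¹⁆ ∈ K
          rw [show ⁅a, g⁻¹⁆ = g⁻¹ * ⁅a, g⁆⁻¹ * g⁻¹⁻¹ by simp only [commutatorElement_def]; group]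
          exact hn _ (K.inv_mem hg) _ }
    have : Subgroup.closure ({S, X} : Set G) ≤ A := by
      rw [Subgroup.closure_le]
      intro y hy
      have hB : Subgroup.closure (brk S X j) ⊔ L G (j + 1) ≤ B y := by
        refine sup_le ((Subgroup.closure_le _).mpr fun c hc => ?_) fun c hc => ?_
        · exact Subgroup.mem_sup_left (Subgroup.subset_closure ⟨c, hc, y, hy, rfl⟩)
        · exact Subgroup.mem_sup_right (L_comm (j := 0) hc (Subgroup.mem_top y))
      exact hB (ih ha)
    exact this (hgen ▸ Subgroup.mem_top g)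

theorem map_L {H : Type u'} [Group H] [Finite H] (f : G →* H) : ∀ j, (L G j).map f ≤ L H j
  | 0 => fun x _ => Subgroup.mem_top x
  | j + 1 => by
    show (⁅L G j, (⊤ : Subgroup G)⁆).map f ≤ ⁅L H j, (⊤ : Subgroup H)⁆
    rw [Subgroup.map_commutator]
    exact Subgroup.commutator_mono (map_L f j) le_top

theorem map_L_surj {H : Type u'} [Group H] [Finite H] (f : G →* H) (hf : Function.Surjective f) :
    ∀ j, (L G j).map f = L H j
  | 0 => Subgroup.map_top_of_surjective f hf
  | j + 1 => by
    show (⁅L G j, (⊤ : Subgroup G)⁆).map f = ⁅L H j, (⊤ : Subgroup H)⁆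
    rw [Subgroup.map_commutator, map_L_surj f hf j, Subgroup.map_top_of_surjective f hf]

end Brackets

/-- The `j`-fold bracket `⁅x, s, …, s⁆`. -/
def ub {G : Type*} [Group G] (s x : G) : ℕ → G
  | 0 => x
  | j + 1 => ⁅ub s x j, s⁆

theorem ub_mem {G : Type*} [Group G] [Finite G] (s x : G) : ∀ j, ub s x j ∈ L G j
  | 0 => Subgroup.mem_top x
  | j + 1 => L_comm (j := 0) (ub_mem s x j) (Subgroup.mem_top s)

section Wreath

variable (p : ℕ) [NeZero p]

/-- The wreath product of two groups of order `p`. -/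
abbrev Wr := Multiplicative (ZMod p) ≀ᵣ Multiplicative (ZMod p)

/-- The generator of the top group. -/
def topGen : Wr p := ⟨1, Multiplicative.ofAdd 1⟩

/-- A generator of the base group. -/
def baseGen : Wr p := ⟨Pi.mulSingle 1 (Multiplicative.ofAdd 1), 1⟩

theorem zmod_mult_pow [Fact p.Prime] (a : Multiplicative (ZMod p)) : a ^ p = 1 :=
  Multiplicative.toAdd.injective (by simp)

theorem base_commute {a b : Wr p} (ha : a.right = 1) (hb : b.right = 1) : a * b = b * a := by
  ext q
  · simp [ha, hb, mul_comm]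
  · simp [ha, hb]

theorem base_pow {a : Wr p} (ha : a.right = 1) (n : ℕ) :
    (a ^ n).left = a.left ^ n ∧ (a ^ n).right = 1 := by
  induction n with
  | zero => simp
  | succ n ih =>
    rw [pow_succ, pow_succ]
    refine ⟨?_, by simp [ih.2, ha]⟩
    funext q
    simp [ih.1, ih.2]

theorem base_pow_p [Fact p.Prime] {a : Wr p} (ha : a.right = 1) : a ^ p = 1 := by
  ext q
  · rw [(base_pow p ha p).1]
    simp [zmod_mult_pow]
  · rw [(base_pow p ha p).2]
    simp

theorem pow_left_formula (a : Wr p) (n : ℕ) (q : Multiplicative (ZMod p)) :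
    (a ^ n).left q = ∏ i ∈ Finset.range n, a.left ((a.right ^ i)⁻¹ * q) ∧
      (a ^ n).right = a.right ^ n := by
  induction n with
  | zero => simp
  | succ n ih =>
    rw [pow_succ, Finset.prod_range_succ]
    refine ⟨?_, by simp [ih.2, pow_succ]⟩
    simp [ih.1, ih.2]

theorem L_one_base {a : Wr p} (ha : a ∈ L (Wr p) 1) : a.right = 1 := by
  have h := map_L (RegularWreathProduct.rightHom :
    Wr p →* Multiplicative (ZMod p)) 1 (Subgroup.mem_map_of_mem _ ha)
  have hbot : L (Multiplicative (ZMod p)) 1 = ⊥ := by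
    show ⁅(⊤ : Subgroup _), (⊤ : Subgroup (Multiplicative (ZMod p)))⁆ = ⊥
    rw [eq_bot_iff, Subgroup.commutator_le]
    intro x _ y _
    rw [Subgroup.mem_bot, commutatorElement_eq_one_iff_mul_comm, mul_comm]
  rw [hbot, Subgroup.mem_bot] at h
  exact h

theorem wreath_power_ne_one [Fact p.Prime] : (topGen p * baseGen p) ^ p ≠ 1 := by
  intro h
  have h1 := (pow_left_formula p (topGen p * baseGen p) p (Multiplicative.ofAdd 1)).1
  rw [h, RegularWreathProduct.one_left, Pi.one_apply] at h1
  have hp : p.Prime := Fact.out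
  rw [Finset.prod_eq_single 0] at h1
  · simp [topGen, baseGen, Pi.mulSingle_apply] at h1
    exact one_ne_zero (ofAdd_eq_one.mp h1.symm)
  · intro i hi hi0
    have hne : (i : ZMod p) ≠ 0 := by
      intro e
      rw [ZMod.natCast_eq_zero_iff] at e
      have := Nat.le_of_dvd (Nat.pos_of_ne_zero hi0) e
      simp at hi
      omega
    simp only [topGen, baseGen, RegularWreathProduct.mul_left, RegularWreathProduct.mul_right,
      Pi.mul_apply, Pi.one_apply, one_mul, mul_one, Pi.mulSingle_apply]
    rw [if_neg]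
    intro e
    apply hne
    have e' := congrArg Multiplicative.toAdd e
    simp only [toAdd_mul, toAdd_inv, toAdd_pow, toAdd_ofAdd, toAdd_one, nsmul_one] at e'
    linear_combination -e'
  · intro h0
    exact absurd (Finset.mem_range.mpr hp.pos) h0

end Wreath

section Engel

variable {p : ℕ} [hp : Fact p.Prime]

/-- In a group of exponent `p` and class at most `p` all `(p - 1)`-fold brackets vanish. -/
theorem engel {W : Type u} [Group W] [Finite W] (hexp : ∀ x : W, x ^ p = 1) (hcW : L W p = ⊥)
    (s x : W) : ub s x (p - 1) = 1 := by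
  classical
  let P := (ZMod p → W) × Wr p
  let S₀ : P := (fun _ => s, topGen p)
  let X₀ : P := (fun k => x ^ k.val, baseGen p)
  let G₀ : Subgroup P := Subgroup.closure ({S₀, X₀} : Set P)
  let S : G₀ := ⟨S₀, Subgroup.subset_closure (by simp)⟩
  let X : G₀ := ⟨X₀, Subgroup.subset_closure (by simp)⟩
  let πk : ZMod p → (G₀ →* W) := fun k =>
    (Pi.evalMonoidHom (fun _ : ZMod p => W) k).comp ((MonoidHom.fst _ _).comp G₀.subtype)
  let πM : G₀ →* Wr p := (MonoidHom.snd _ _).comp G₀.subtype
  have hgen : Subgroup.closure ({S, X} : Set G₀) = ⊤ := by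
    apply Subgroup.map_injective G₀.subtype_injective
    rw [MonoidHom.map_closure, Set.image_pair, ← MonoidHom.range_eq_map, Subgroup.range_subtype]
    rfl
  have hcM : L (Wr p) p = ⊥ := by
    have hcard : Nat.card (Wr p) = p ^ (p + 1) := by
      rw [RegularWreathProduct.card, pow_succ]
      simp
    have := RankTwo.lowerCentralSeries_eq_bot (p := p) (G := Wr p)
      (by have := hp.out.two_le; omega) hcard
    simpa using this
  have hext : ∀ z : G₀, (∀ k, πk k z = 1) → πM z = 1 → z = 1 := fun z h1 h2 =>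
    Subtype.ext (Prod.ext (funext h1) h2)
  have hc0 : L G₀ p = ⊥ := by
    rw [eq_bot_iff]
    intro z hz
    exact hext z (fun k => Subgroup.mem_bot.mp (hcW ▸ map_L (πk k) p (Subgroup.mem_map_of_mem _ hz)))
      (Subgroup.mem_bot.mp (hcM ▸ map_L πM p (Subgroup.mem_map_of_mem _ hz)))
  set w : G₀ := (X ^ p)⁻¹ * (S ^ p)⁻¹ * (S * X) ^ p with hw
  have hwL : w ∈ L G₀ (p - 1) := by
    refine hall_congr (filtration_L hc0) (a := S) (b := X) (Subgroup.mem_top _) (Subgroup.mem_top _)
      _ (fun j hj _ y hy => ?_) (fun j hj => L_mono (by omega))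
    have : y ^ p = 1 := hext _ (fun k => by rw [map_pow, hexp]) (by
      rw [map_pow]
      exact base_pow_p p (L_one_base p (map_L πM 1 (Subgroup.mem_map_of_mem _
        (L_mono (show 1 ≤ j - 1 by omega) hy)))))
    rw [this]
    exact one_mem _
  have hwk : ∀ k, πk k w = 1 := fun k => by simp [hw, hexp]
  have hwM : πM w = (topGen p * baseGen p) ^ p := by
    have h1 : (topGen p) ^ p = 1 := by
      ext q
      · rw [(pow_left_formula p (topGen p) p q).1]
        simp [topGen]
      · rw [(pow_left_formula p (topGen p) p 1).2]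
        simp [zmod_mult_pow]
    have h2 : (baseGen p) ^ p = 1 := base_pow_p p rfl
    rw [hw, map_mul, map_mul, map_inv, map_inv, map_pow, map_pow, map_pow, map_mul]
    show (baseGen p ^ p)⁻¹ * (topGen p ^ p)⁻¹ * (topGen p * baseGen p) ^ p = _
    rw [h1, h2, inv_one, one_mul, one_mul]
  -- the value of one bracket
  set uM := ub (topGen p) (baseGen p) with huM
  have hval : ∀ (c : W) (j m : ℕ), qm W j c ^ m = qm W j c ^ (m : ZMod p).val := by
    intro c j m
    rw [ZMod.val_natCast]
    exact pow_eq_pow_mod m (by rw [← map_pow, hexp, map_one])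
  have brackets : ∀ j, ∀ z ∈ brk S X (j + 1), ∃ (d : ℕ) (c : W) (E : ℤ), d ≤ j + 1 ∧
      c ∈ L W (j + 1) ∧ (∀ k : ZMod p, qm W (j + 2) (πk k z) = qm W (j + 2) c ^ (k ^ d).val) ∧
      (d = 0 → c = 1) ∧
      (d = 1 → qm W (j + 2) c = qm W (j + 2) (ub s x (j + 1)) ^ E ∧
        qm (Wr p) (j + 2) (πM z) = qm (Wr p) (j + 2) (uM (j + 1)) ^ E) ∧
      (d ≠ 1 → qm (Wr p) (j + 2) (πM z) = 1) := by
    intro j
    induction j with
    | zero =>
      rintro z ⟨g, hg, y, hy, rfl⟩
      simp only [brk, Set.mem_insert_iff, Set.mem_singleton_iff] at hg hy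
      have hxs : ∀ k : ZMod p, qm W 2 ⁅x ^ k.val, s⁆ = qm W 2 ⁅x, s⁆ ^ k.val := fun k =>
        comm_congr_pow (j := 0) (Subgroup.mem_top x) (by rw [map_pow]) s
      rcases hg with rfl | rfl <;> rcases hy with rfl | rfl
      · exact ⟨0, 1, 0, by omega, one_mem _, fun k => by rw [map_commutatorElement, commutatorElement_self, map_one, one_pow], fun _ => rfl,
          fun h => absurd h (by omega), fun _ => by rw [map_commutatorElement, commutatorElement_self, map_one]⟩
      · refine ⟨1, ⁅x, s⁆⁻¹, -1, le_rfl, inv_mem (ub_mem s x 1), fun k => ?_,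
          fun h => absurd h (by omega), fun _ => ⟨?_, ?_⟩, fun h => absurd rfl h⟩
        · rw [pow_one, map_commutatorElement]
          show qm W 2 ⁅s, x ^ k.val⁆ = _
          rw [← commutatorElement_inv, map_inv, hxs, map_inv, inv_pow]
        · rw [map_inv, zpow_neg_one]; rfl
        · rw [map_commutatorElement]
          show qm (Wr p) 2 ⁅topGen p, baseGen p⁆ = _
          rw [← commutatorElement_inv, map_inv, zpow_neg_one]; rfl
      · refine ⟨1, ⁅x, s⁆, 1, le_rfl, ub_mem s x 1, fun k => ?_, fun h => absurd h (by omega),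
          fun _ => ⟨?_, ?_⟩, fun h => absurd rfl h⟩
        · rw [pow_one, map_commutatorElement]
          exact hxs k
        · rw [zpow_one]; rfl
        · rw [map_commutatorElement, zpow_one]; rfl
      · exact ⟨0, 1, 0, by omega, one_mem _, fun k => by rw [map_commutatorElement, commutatorElement_self, map_one, one_pow], fun _ => rfl,
          fun h => absurd h (by omega), fun _ => by rw [map_commutatorElement, commutatorElement_self, map_one]⟩
    | succ j ih =>
      rintro z ⟨g, hg, y, hy, rfl⟩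
      obtain ⟨d, c, E, hd, hcL, hk, h0, h1, h2⟩ := ih g hg
      have hgM : πM g ∈ L (Wr p) (j + 1) :=
        map_L πM _ (Subgroup.mem_map_of_mem _ (brk_subset S X _ hg))
      simp only [Set.mem_insert_iff, Set.mem_singleton_iff] at hy
      rcases hy with rfl | rfl
      · refine ⟨d, ⁅c, s⁆, E, by omega, L_comm (j := 0) hcL (Subgroup.mem_top s), fun k => ?_,
          fun h => by rw [h0 h, commutatorElement_one_left], fun h => ⟨?_, ?_⟩, fun h => ?_⟩
        · rw [map_commutatorElement]
          exact comm_congr_pow hcL (hk k) s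
        · exact comm_congr_zpow (ub_mem s x (j + 1)) (h1 h).1 s
        · rw [map_commutatorElement]
          exact comm_congr_zpow (ub_mem _ _ (j + 1)) (h1 h).2 (topGen p)
        · rw [map_commutatorElement]
          have := comm_congr_pow (j := j + 1) (one_mem (L (Wr p) (j + 1))) (n := 0)
            (a := πM g) (by rw [h2 h, pow_zero]) (topGen p)
          rwa [pow_zero] at this
      · have hM1 : qm (Wr p) (j + 1 + 2) (πM ⁅g, X⁆) = 1 := by
          rw [map_commutatorElement]
          have : ⁅πM g, baseGen p⁆ = 1 := commutatorElement_eq_one_iff_mul_comm.mpr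
            (base_commute p (L_one_base p (L_mono (by omega) hgM)) rfl)
          show qm (Wr p) _ ⁅πM g, baseGen p⁆ = 1
          rw [this, map_one]
        refine ⟨d + 1, ⁅c, x⁆, 0, by omega, L_comm (j := 0) hcL (Subgroup.mem_top x), fun k => ?_,
          fun h => absurd h (by omega), fun h => ?_, fun _ => hM1⟩
        · rw [map_commutatorElement]
          show qm W (j + 1 + 2) ⁅πk k g, x ^ k.val⁆ = _
          rw [comm_congr_pow hcL (hk k) (x ^ k.val), comm_pow_right hcL x k.val, ← pow_mul, hval,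
            pow_succ]
          congr 2
          simp [mul_comm]
        · rw [zpow_zero, zpow_zero]
          refine ⟨?_, hM1⟩
          rw [h0 (by omega), commutatorElement_one_left, map_one]
  -- the top layer
  have hp2 := hp.out.two_le
  obtain ⟨j, hj⟩ : ∃ j, p - 1 = j + 1 := ⟨p - 2, by omega⟩
  have hjW : L W (j + 2) = ⊥ := by rw [show j + 2 = p by omega]; exact hcW
  have hjM : L (Wr p) (j + 2) = ⊥ := by rw [show j + 2 = p by omega]; exact hcM
  have injW : ∀ a b : W, qm W (j + 2) a = qm W (j + 2) b → a = b := fun a b h => by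
    have := QuotientGroup.eq.mp h
    rw [hjW, Subgroup.mem_bot, inv_mul_eq_one] at this
    exact this
  have injM : ∀ a b : Wr p, qm (Wr p) (j + 2) a = qm (Wr p) (j + 2) b → a = b := fun a b h => by
    have := QuotientGroup.eq.mp h
    rw [hjM, Subgroup.mem_bot, inv_mul_eq_one] at this
    exact this
  have hcen : ∀ c ∈ L W (j + 1), c ∈ Subgroup.center W := fun c hc =>
    Subgroup.mem_center_iff.mpr fun g => injW _ _ (by
      rw [map_mul, map_mul]; exact (qm_comm (j := j + 1) hc g).eq)
  letI : CommGroup ↥(Subgroup.center W) := { (inferInstance : Group ↥(Subgroup.center W)) with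
    mul_comm := fun a b => Subtype.ext (Subgroup.mem_center_iff.mp b.2 a) }
  letI : Module (ZMod p) (Additive ↥(Subgroup.center W)) := AddCommGroup.zmodModule (fun a =>
    Additive.toMul.injective (Subtype.ext (by simp [hexp])))
  have hsmul : ∀ (t : ZMod p) (a : (Additive ↥(Subgroup.center W))), ((Additive.toMul (t • a) : ↥(Subgroup.center W)) : W) =
      ((Additive.toMul a : ↥(Subgroup.center W)) : W) ^ t.val := by
    intro t a
    conv_lhs => rw [← ZMod.natCast_zmod_val t, Nat.cast_smul_eq_nsmul]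
    simp
  let u : (Additive ↥(Subgroup.center W)) := Additive.ofMul ⟨ub s x (j + 1), hcen _ (ub_mem s x (j + 1))⟩
  let Good : G₀ → Prop := fun z => ∃ (c : ℕ → (Additive ↥(Subgroup.center W))) (E : ℤ), c 0 = 0 ∧ c 1 = E • u ∧
    (∀ k : ZMod p, πk k z =
      ((Additive.toMul (∑ d ∈ Finset.range p, (k ^ d) • c d) : ↥(Subgroup.center W)) : W)) ∧
    πM z = uM (j + 1) ^ E
  have hgood : ∀ z ∈ Subgroup.closure (brk S X (j + 1)), Good z := by
    intro z hz
    induction hz using Subgroup.closure_induction with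
    | one => exact ⟨0, 0, rfl, by simp, fun k => by simp, by simp⟩
    | mul a b ha hb h1 h2 =>
      obtain ⟨c, E, c0, c1, ck, cM⟩ := h1
      obtain ⟨c', E', c0', c1', ck', cM'⟩ := h2
      exact ⟨c + c', E + E', by simp [c0, c0'], by simp [c1, c1', add_smul], fun k => by
        rw [map_mul, ck, ck', ← Subgroup.coe_mul, ← toMul_add, ← Finset.sum_add_distrib]
        simp [smul_add], by rw [map_mul, cM, cM', zpow_add]⟩
    | inv a ha h1 =>
      obtain ⟨c, E, c0, c1, ck, cM⟩ := h1
      exact ⟨-c, -E, by simp [c0], by simp [c1], fun k => by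
        rw [map_inv, ck, ← Subgroup.coe_inv, ← toMul_neg, ← Finset.sum_neg_distrib]
        simp, by rw [map_inv, cM, zpow_neg]⟩
    | mem z hz =>
      obtain ⟨d, c, E, hd, hcL, hk, h0, h1, h2⟩ := brackets j z hz
      let cA : (Additive ↥(Subgroup.center W)) := Additive.ofMul ⟨c, hcen c hcL⟩
      refine ⟨fun i => if i = d then cA else 0, if d = 1 then E else 0, ?_, ?_, fun k => ?_, ?_⟩
      · by_cases h : 0 = d
        · simp only [if_pos h, cA]
          exact Additive.toMul.injective (Subtype.ext (h0 h.symm))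
        · simp [h]
      · by_cases h : d = 1
        · simp only [h, if_pos rfl, if_true, cA]
          refine Additive.toMul.injective (Subtype.ext ?_)
          simp only [toMul_zsmul, toMul_ofMul, Subgroup.coe_zpow, u]
          exact injW _ _ (by rw [map_zpow]; exact (h1 h).1)
        · simp [h, Ne.symm h]
      · rw [Finset.sum_eq_single d (fun i _ hi => by simp [hi])
          (fun h => absurd (Finset.mem_range.mpr (by omega)) h)]
        simp only [if_true, hsmul]
        exact injW _ _ (by rw [map_pow]; exact hk k)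
      · by_cases h : d = 1
        · rw [if_pos h]; exact injM _ _ (by rw [map_zpow]; exact (h1 h).2)
        · rw [if_neg h, zpow_zero]; exact injM _ _ (by rw [map_one]; exact h2 h)
  have hwcl : w ∈ Subgroup.closure (brk S X (j + 1)) := by
    have := L_le_brk S X hgen (j + 1) (hj ▸ hwL)
    rw [show j + 1 + 1 = p by omega, hc0, sup_bot_eq] at this
    exact this
  obtain ⟨c, E, c0, c1, ck, cM⟩ := hgood w hwcl
  -- isolate the linear coefficient
  have hzero : ∀ k : ZMod p, ∑ d ∈ Finset.range p, (k ^ d) • c d = 0 := fun k =>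
    Additive.toMul.injective (Subtype.ext ((ck k).symm.trans (hwk k)))
  have hc1 : c 1 = 0 := by
    have h : ∑ k : ZMod p, (k ^ (p - 2)) • ∑ d ∈ Finset.range p, (k ^ d) • c d = 0 := by
      simp [hzero]
    simp only [Finset.smul_sum, smul_smul] at h
    rw [Finset.sum_comm, Finset.sum_eq_single 1 ?_ (fun h => absurd (Finset.mem_range.mpr (by omega)) h)] at h
    · rw [← Finset.sum_smul] at h
      have hs : ∑ k : ZMod p, k ^ (p - 2) * k ^ 1 = -1 := by
        simp only [← pow_add, show p - 2 + 1 = p - 1 by omega]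
        rw [← Finset.add_sum_erase _ _ (Finset.mem_univ (0 : ZMod p)), zero_pow (by omega), zero_add,
          Finset.sum_congr rfl (g := fun _ => (1 : ZMod p))
            (fun k hk => ZMod.pow_card_sub_one_eq_one (Finset.ne_of_mem_erase hk))]
        simp [Finset.card_erase_of_mem, ZMod.card, Nat.cast_sub hp.out.one_le]
      rw [hs, neg_one_smul, neg_eq_zero] at h
      exact h
    · intro d hd hd1
      rcases Nat.eq_zero_or_pos d with rfl | hd0
      · simp [c0]
      · rw [← Finset.sum_smul]
        have hs : ∀ k : ZMod p, k ^ (p - 2) * k ^ d = k ^ (d - 1) := by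
          intro k
          rcases eq_or_ne k 0 with rfl | hk
          · rw [zero_pow (show d ≠ 0 by omega), zero_pow (show d - 1 ≠ 0 by omega), mul_zero]
          · rw [← pow_add, show p - 2 + d = (p - 1) + (d - 1) by omega, pow_add,
              ZMod.pow_card_sub_one_eq_one hk, one_mul]
        simp only [hs]
        rw [FiniteField.sum_pow_lt_card_sub_one (ZMod p) _ (by
          rw [ZMod.card]; have := Finset.mem_range.mp hd; omega), zero_smul]
  rw [c1] at hc1
  have hu : ub s x (j + 1) ^ E = 1 := by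
    have := congrArg (fun a : (Additive ↥(Subgroup.center W)) => ((Additive.toMul a : ↥(Subgroup.center W)) : W)) hc1
    simpa [u] using this
  have hE : ¬ (p : ℤ) ∣ E := by
    rintro ⟨m, rfl⟩
    apply wreath_power_ne_one p
    rw [← hwM, cM, zpow_mul, zpow_natCast,
      base_pow_p p (L_one_base p (L_mono (show 1 ≤ j + 1 by omega) (ub_mem _ _ (j + 1)))), one_zpow]
  rw [hj, ← orderOf_eq_one_iff]
  have h1 : orderOf (ub s x (j + 1)) ∣ p := orderOf_dvd_of_pow_eq_one (hexp _)
  rcases hp.out.eq_one_or_self_of_dvd _ h1 with h | h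
  · exact h
  · exact absurd (h ▸ (orderOf_dvd_iff_zpow_eq_one.mpr hu)) hE

end Engel

end Cfsg.Agent.Lib.MaxClassPower
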